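/-
Coset enumeration certificate: the assembled result.
-/
import Cfsg.Agent.Lib.Spor.TC.Steps
import Cfsg.Agent.Lib.Spor.HeInvCent.Rels
import Cfsg.Agent.Lib.Spor.HeInvCent.CC.Part0
import Cfsg.Agent.Lib.Spor.HeInvCent.CC.Part1

namespace CfsgLib.Spor.HeInvCent.CC

open CfsgLib.Spor.TC

theorem steps_ok : cert.StepsOK 0 5232 :=
  (steps0.append _ steps3456)

theorem rows_ok : cert.RowsOK 5232 2688 0 2688 :=
  (rows0.append _ rows2353)

theorem row_zero : cert.rowNode 0 = 0 := by decide +kernel

/-- The certificate, for the relators as powers of words. -/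
noncomputable def cosetCert : CosetCert 3 relsC [0, 1] 2688 :=
  ⟨cert, 5232, steps_ok, rows_ok, row_zero, by decide, rfl, by decide +kernel, by decide +kernel⟩

end CfsgLib.Spor.HeInvCent.CC
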